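import Groth.Agent.Fano.K496.QuintDat

/-!
# An embedded rational plane quintic lies on no conic

`planar`: if `c` is a vector of three binary forms of degree `5` which separates points and tangent vectors and the
polars `tri τ c c e_a` of a symmetric trilinear form vanish, then `τ = 0`.
-/

set_option autoImplicit false

namespace K416.Planar

open MvPolynomial K713.BinFactor K496.BinAlg K496.QuintDat

section Ident

variable {R : Type*} [CommRing R]

/-- The bilinear form with matrix `β`. -/
def q (β : Fin 3 → Fin 3 → R) (x y : Fin 3 → R) : R := ∑ a, ∑ b, β a b * (x a * y b)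

/-- The cross product. -/
def cr (w w' : Fin 3 → R) : Fin 3 → R := ![w 1 * w' 2 - w 2 * w' 1, w 2 * w' 0 - w 0 * w' 2, w 0 * w' 1 - w 1 * w' 0]

/-- The scalar product. -/
def dt (n x : Fin 3 → R) : R := n 0 * x 0 + n 1 * x 1 + n 2 * x 2

theorem q_comm {β : Fin 3 → Fin 3 → R} (hβ : ∀ a b, β a b = β b a) (x y : Fin 3 → R) : q β x y = q β y x := by
  simp only [q, Fin.sum_univ_three, hβ 1 0, hβ 2 0, hβ 2 1]
  ring

theorem ident {β : Fin 3 → Fin 3 → R} (hβ : ∀ a b, β a b = β b a) {w w' : Fin 3 → R} (h1 : q β w w = 0)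
    (h2 : q β w w' = 0) (h3 : q β w' w' = 0) (x : Fin 3 → R) (i : Fin 3) :
    cr w w' i ^ 2 * q β x x = dt (cr w w') x * (2 * cr w w' i * dt (β i) x - β i i * dt (cr w w') x) := by
  simp only [q, Fin.sum_univ_three, hβ 1 0, hβ 2 0, hβ 2 1] at h1 h2 h3
  fin_cases i
  · simp only [q, cr, dt, Fin.sum_univ_three, hβ 1 0, hβ 2 0, hβ 2 1, Fin.zero_eta, Fin.isValue, Matrix.cons_val_zero,
      Matrix.cons_val_one, Matrix.cons_val]
    linear_combination (w' 2 * x 1 - w' 1 * x 2) ^ 2 * h1 +
      2 * (w' 2 * x 1 - w' 1 * x 2) * (w 1 * x 2 - w 2 * x 1) * h2 + (w 1 * x 2 - w 2 * x 1) ^ 2 * h3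
  · simp only [q, cr, dt, Fin.sum_univ_three, hβ 1 0, hβ 2 0, hβ 2 1, Fin.mk_one, Fin.isValue, Matrix.cons_val_zero,
      Matrix.cons_val_one, Matrix.cons_val]
    linear_combination (w' 0 * x 2 - w' 2 * x 0) ^ 2 * h1 +
      2 * (w' 0 * x 2 - w' 2 * x 0) * (w 2 * x 0 - w 0 * x 2) * h2 + (w 2 * x 0 - w 0 * x 2) ^ 2 * h3
  · simp only [q, cr, dt, Fin.sum_univ_three, hβ 1 0, hβ 2 0, hβ 2 1, Fin.reduceFinMk, Fin.isValue,
      Matrix.cons_val_zero, Matrix.cons_val_one, Matrix.cons_val]
    linear_combination (w' 1 * x 0 - w' 0 * x 1) ^ 2 * h1 +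
      2 * (w' 1 * x 0 - w' 0 * x 1) * (w 0 * x 1 - w 1 * x 0) * h2 + (w 0 * x 1 - w 1 * x 0) ^ 2 * h3

/-- Two vectors orthogonal to `μ`: their minors are proportional to `μ`. -/
theorem cr_rel {μ v c : Fin 3 → R} (hv : dt μ v = 0) (hc : dt μ c = 0) (i b a : Fin 3) :
    μ i * (v b * c a - v a * c b) = (![![0, μ 2, - μ 1], ![- μ 2, 0, μ 0], ![μ 1, - μ 0, 0]] b a) * cr v c i := by
  simp only [dt] at hv hc
  fin_cases i <;> fin_cases b <;> fin_cases a <;>
    simp only [cr, Fin.zero_eta, Fin.mk_one, Fin.reduceFinMk, Fin.isValue, Matrix.cons_val_zero,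
      Matrix.cons_val_one, Matrix.cons_val, Matrix.cons_val', Matrix.cons_val_fin_one] <;>
    first
      | ring1
      | linear_combination c 0 * hv - v 0 * hc
      | linear_combination c 1 * hv - v 1 * hc
      | linear_combination c 2 * hv - v 2 * hc
      | linear_combination -c 0 * hv + v 0 * hc
      | linear_combination -c 1 * hv + v 1 * hc
      | linear_combination -c 2 * hv + v 2 * hc

end Ident

variable {k : Type*} [Field k]

section Li

variable [IsAlgClosed k]

/-- The coordinates of an embedded quintic in the plane are linearly independent. -/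
theorem li {c : Fin 3 → MvPolynomial (Fin 2) k} (hc : ∀ a, (c a).IsHomogeneous 5) (emb : Emb c)
    {μ : Fin 3 → k} (h : dt (fun a => C (μ a)) c = 0) (i : Fin 3) : μ i = 0 := by
  by_contra hi
  let P : Fin 2 → k := ![1, 0]
  have hP : P ≠ 0 := fun h0 => one_ne_zero (congrFun h0 0)
  obtain ⟨b, hb⟩ := emb.nz hP
  let v : Fin 3 → k := fun a => eval P (c a)
  have hv : dt μ v = 0 := by
    have := congrArg (eval P) h
    simpa [dt] using this
  let E : MvPolynomial (Fin 2) k := cr (fun a => C (v a)) c i
  have hhom : ∀ (x : k) (a : Fin 3), (C x * c a).IsHomogeneous 5 := fun x a => by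
    simpa using (isHomogeneous_C (Fin 2) x).mul (hc a)
  have hE : E.IsHomogeneous (4 + 1) := by
    change (cr (fun a => C (v a)) c i).IsHomogeneous (4 + 1)
    fin_cases i
    · exact (hhom _ _).sub (hhom _ _)
    · exact (hhom _ _).sub (hhom _ _)
    · exact (hhom _ _).sub (hhom _ _)
  have hEP : eval P E = 0 := by
    change eval P (cr (fun a => C (v a)) c i) = 0
    fin_cases i
    · change eval P (C (v 1) * c 2 - C (v 2) * c 1) = 0
      simp only [map_sub, map_mul, eval_C, v]; ring
    · change eval P (C (v 2) * c 0 - C (v 0) * c 2) = 0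
      simp only [map_sub, map_mul, eval_C, v]; ring
    · change eval P (C (v 0) * c 1 - C (v 1) * c 0) = 0
      simp only [map_sub, map_mul, eval_C, v]; ring
  have hvC : dt (fun a => (C (μ a) : MvPolynomial (Fin 2) k)) (fun a => C (v a)) = 0 := by
    have := congrArg (C : k → MvPolynomial (Fin 2) k) hv
    simpa [dt] using this
  have hrel : ∀ b a, ∃ r : MvPolynomial (Fin 2) k, C (μ i) * (C (v b) * c a - C (v a) * c b) = r * E := fun b a =>
    ⟨_, cr_rel hvC h i b a⟩
  obtain ⟨E', hE', hEE'⟩ := exists_lin_mul hE hP hEP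
  obtain ⟨Q, hQ, hQE⟩ := exists_zero (n := 3) hE'
  by_cases hPQ : P 0 * Q 1 - P 1 * Q 0 = 0
  · -- a tangent vector is contracted
    have hE'P : eval P E' = 0 := by
      obtain ⟨t, ht⟩ := exists_smul_of_eval_lin hP (x := Q) (by rw [eval_lin]; linear_combination -hPQ)
      have ht0 : t ≠ 0 := by
        rintro rfl
        rw [zero_smul] at ht
        exact hQ ht
      rw [ht, eval_smul_of_isHomogeneous hE'] at hQE
      exact (mul_eq_zero.1 hQE).resolve_left (pow_ne_zero _ ht0)
    obtain ⟨E'', hE''⟩ := lin_dvd hE' hP hE'P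
    refine emb.tan P hP (c b) (fun a => v a / v b) fun a => ?_
    obtain ⟨r, hr⟩ := hrel b a
    refine ⟨C (v b)⁻¹ * (C (μ i)⁻¹ * (r * E'')), ?_⟩
    have e1 : (C (μ i)⁻¹ : MvPolynomial (Fin 2) k) * C (μ i) = 1 := by rw [← C_mul, inv_mul_cancel₀ hi, C_1]
    have e2 : (C (v b)⁻¹ : MvPolynomial (Fin 2) k) * C (v b) = 1 := by rw [← C_mul, inv_mul_cancel₀ hb, C_1]
    rw [hEE', hE''] at hr
    have e3 : (C (v a / v b) : MvPolynomial (Fin 2) k) = C (v a) * C (v b)⁻¹ := by rw [← C_mul, div_eq_mul_inv]
    rw [e3]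
    have e4 : C (v b) * c a - C (v a) * c b = C (μ i)⁻¹ * (r * (lin P * (lin P * E''))) := by
      rw [← hr]
      linear_combination (-(C (v b) * c a - C (v a) * c b)) * e1
    linear_combination (C (v b)⁻¹) * e4 - c a * e2
  · -- two points are identified
    have h1 : ∀ a, v b * eval Q (c a) - v a * eval Q (c b) = 0 := by
      intro a
      obtain ⟨r, hr⟩ := hrel b a
      have h2 := congrArg (eval Q) hr
      rw [map_mul, map_mul, hEE', map_mul, hQE, mul_zero, mul_zero] at h2
      have h3 := (mul_eq_zero.1 h2).resolve_left (by rwa [eval_C])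
      simpa using h3
    have h4 := emb.pts P Q hPQ (eval Q (c b)) (- v b) fun a => by
      linear_combination -(h1 a)
    exact hb (neg_eq_zero.1 h4.2)

/-- An embedded quintic in the plane lies on no conic. -/
theorem quad [CharZero k] {c : Fin 3 → MvPolynomial (Fin 2) k} (hc : ∀ a, (c a).IsHomogeneous 5) (emb : Emb c)
    {β : Fin 3 → Fin 3 → k} (hβ : ∀ a b, β a b = β b a) (h : q (fun a b => C (β a b)) c c = 0) (a b : Fin 3) :
    β a b = 0 := by
  by_contra hab
  let v : (Fin 2 → k) → Fin 3 → k := fun P a => eval P (c a)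
  have hβC : ∀ a b, (C (β a b) : MvPolynomial (Fin 2) k) = C (β b a) := fun a b => by rw [hβ]
  have hvv : ∀ P, q β (v P) (v P) = 0 := by
    intro P
    have := congrArg (eval P) h
    simpa [q] using this
  -- claim 1
  have key : ∀ P Q : Fin 2 → k, P 0 * Q 1 - P 1 * Q 0 ≠ 0 → q β (v P) (v Q) ≠ 0 := by
    intro P Q hPQ h2
    have hP : P ≠ 0 := by
      rintro rfl
      simp at hPQ
    obtain ⟨i, hi⟩ : ∃ i, cr (v P) (v Q) i ≠ 0 := by
      by_contra hcon
      push Not at hcon
      obtain ⟨e, he⟩ := emb.nz hP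
      have h3 : ∀ a, v Q e * v P a - v P e * v Q a = 0 := by
        intro a
        have c0 := hcon 0
        have c1 := hcon 1
        have c2 := hcon 2
        change v P 1 * v Q 2 - v P 2 * v Q 1 = 0 at c0
        change v P 2 * v Q 0 - v P 0 * v Q 2 = 0 at c1
        change v P 0 * v Q 1 - v P 1 * v Q 0 = 0 at c2
        fin_cases e <;> fin_cases a <;>
          simp only [Fin.zero_eta, Fin.mk_one, Fin.reduceFinMk, Fin.isValue] <;>
          first
            | ring1
            | linear_combination c0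
            | linear_combination c1
            | linear_combination c2
            | linear_combination -c0
            | linear_combination -c1
            | linear_combination -c2
      have h4 := emb.pts P Q hPQ (v Q e) (- v P e) fun a => by linear_combination h3 a
      exact he (neg_eq_zero.1 h4.2)
    set n := cr (v P) (v Q) with hn
    have hmapC : ∀ x y : Fin 3 → k, q (fun a b => (C (β a b) : MvPolynomial (Fin 2) k)) (fun a => C (x a))
        (fun a => C (y a)) = C (q β x y) := by
      intro x y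
      simp only [q, map_sum, map_mul]
    have hcrC : ∀ j, cr (fun a => (C (v P a) : MvPolynomial (Fin 2) k)) (fun a => C (v Q a)) j = C (n j) := by
      intro j
      rw [hn]
      fin_cases j <;> simp [cr]
    have hid := ident (R := MvPolynomial (Fin 2) k) hβC (w := fun a => C (v P a)) (w' := fun a => C (v Q a))
      (by rw [hmapC, hvv, map_zero]) (by rw [hmapC, h2, map_zero]) (by rw [hmapC, hvv, map_zero]) c i
    rw [h, mul_zero] at hid
    have hdtC : dt (cr (fun a => (C (v P a) : MvPolynomial (Fin 2) k)) (fun a => C (v Q a))) c =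
        dt (fun a => C (n a)) c := by
      simp only [dt, hcrC]
    rw [hcrC, hdtC] at hid
    rcases mul_eq_zero.1 hid.symm with h5 | h5
    · exact hi (li hc emb h5 i)
    · have h6 : dt (fun a => C (2 * n i * β i a - β i i * n a)) c = 0 := by
        rw [← h5]
        simp only [dt, map_sub, map_mul, map_ofNat]
        ring
      have h7 := fun j => li hc emb h6 j
      have h8 : β i i = 0 := by
        have := h7 i
        have h9 : n i * β i i = 0 := by linear_combination this
        exact (mul_eq_zero.1 h9).resolve_left hi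
      have h10 : ∀ j, β i j = 0 := by
        intro j
        have := h7 j
        rw [h8, zero_mul, sub_zero] at this
        exact (mul_eq_zero.1 this).resolve_left (mul_ne_zero two_ne_zero hi)
      have h11 : ∀ x : Fin 3 → k, q β x x = 0 := by
        intro x
        have h12 := ident hβ (hvv P) h2 (hvv Q) x i
        rw [← hn] at h12
        have h13 : dt (β i) x = 0 := by simp [dt, h10]
        rw [h13, h8, mul_zero, zero_mul, sub_zero, mul_zero] at h12
        exact (mul_eq_zero.1 h12).resolve_left (pow_ne_zero _ hi)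
      have h14 : ∀ a b, β a b = 0 := by
        intro a b
        have e0 := h11 (Pi.single a 1)
        have e1 := h11 (Pi.single b 1)
        have e2 := h11 (Pi.single a 1 + Pi.single b 1)
        have h15 : ∀ x y x' y' : Fin 3 → k, q β (x + x') (y + y') = q β x y + q β x y' + q β x' y + q β x' y' := by
          intro x y x' y'
          simp only [q, Fin.sum_univ_three, Pi.add_apply]
          ring
        have h16 : ∀ a b, q β (Pi.single a 1) (Pi.single b 1) = β a b := by
          intro a b
          simp [q, Pi.single_apply, Finset.sum_ite_eq']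
        rw [h15, e0, e1, h16, h16, hβ b a] at e2
        have : 2 * β a b = 0 := by linear_combination e2
        exact (mul_eq_zero.1 this).resolve_left two_ne_zero
      exact hab (h14 a b)
  -- claim 2
  have claim : ∀ P : Fin 2 → k, P ≠ 0 → ∃ κ : k, ∀ Q : Fin 2 → k,
      q β (v P) (v Q) = κ * (P 1 * Q 0 - P 0 * Q 1) ^ 5 := by
    intro P hP
    let A : MvPolynomial (Fin 2) k := ∑ b, C (∑ a, β a b * v P a) * c b
    have hA : A.IsHomogeneous 5 := IsHomogeneous.sum _ _ _ fun b _ => by
      simpa using (isHomogeneous_C (Fin 2) (∑ a, β a b * v P a)).mul (hc b)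
    have hAe : ∀ Q, eval Q A = q β (v P) (v Q) := by
      intro Q
      simp only [A, q, map_add, map_mul, eval_C, v, Fin.sum_univ_three]
      ring
    obtain ⟨κ, hκ⟩ := exists_eq_pow 5 hA hP fun Q hQ => by rw [hAe]; exact key P Q hQ
    refine ⟨κ, fun Q => ?_⟩
    rw [← hAe, hκ, map_mul, map_pow, eval_C, eval_lin]
  have n1 : (![1, 0] : Fin 2 → k) ≠ 0 := fun h0 => one_ne_zero (congrFun h0 0)
  have n2 : (![0, 1] : Fin 2 → k) ≠ 0 := fun h0 => one_ne_zero (congrFun h0 1)
  have n3 : (![1, 1] : Fin 2 → k) ≠ 0 := fun h0 => one_ne_zero (congrFun h0 0)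
  obtain ⟨κ₁, h1⟩ := claim _ n1
  obtain ⟨κ₂, h2⟩ := claim _ n2
  obtain ⟨κ₃, h3⟩ := claim _ n3
  have h12 := h1 ![0, 1]
  have h21 := h2 ![1, 0]
  have h13 := h1 ![1, 1]
  have h31 := h3 ![1, 0]
  have h23 := h2 ![1, 1]
  have h32 := h3 ![0, 1]
  rw [q_comm hβ] at h21 h31 h32
  simp only [Fin.isValue, Matrix.cons_val_zero, Matrix.cons_val_one, Matrix.cons_val_fin_one, mul_zero, mul_one,
    zero_sub, sub_zero, one_pow] at h12 h21 h13 h31 h23 h32
  have h0 : κ₁ = 0 := by
    have e1 : κ₂ = - κ₁ := by linear_combination h12 - h21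
    have e2 : κ₃ = - κ₁ := by linear_combination h13 - h31
    have e3 : κ₂ = - κ₃ := by linear_combination h32 - h23
    have : 2 * κ₁ = 0 := by linear_combination e1 + e2 - e3
    exact (mul_eq_zero.1 this).resolve_left two_ne_zero
  refine key ![1, 0] ![0, 1] (by simp) ?_
  rw [h12, h0, zero_mul]

/-- Q5-3. An embedded rational curve of degree `5` in the plane lies on no conic. -/
theorem planar [CharZero k] {c : Fin 3 → MvPolynomial (Fin 2) k} (hc : ∀ a, (c a).IsHomogeneous 5) (emb : Emb c)
    {τ : Fin 3 → Fin 3 → Fin 3 → k} (symm₁ : ∀ a b d, τ a b d = τ b a d) (_symm₂ : ∀ a b d, τ a b d = τ a d b)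
    (h : ∀ a, tri τ c c (Pi.single a 1) = 0) (a b d : Fin 3) : τ a b d = 0 := by
  refine quad hc emb (β := fun a b => τ a b d) (fun a b => symm₁ a b d) ?_ a b
  rw [← h d, q, tri]
  refine Finset.sum_congr rfl fun a _ => Finset.sum_congr rfl fun b _ => ?_
  rw [Finset.sum_eq_single d]
  · simp
  · intro e _ he; simp [he]
  · simp

end Li

end K416.Planar
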